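import Groth.Agent.H26Blow.Chart
import Groth.Agent.H26ModPair.Coprod
import Groth.Prelude.Def_ega3
import Mathlib.AlgebraicGeometry.ProjectiveSpectrum.Basic

/-! `Proj` of the Rees algebra is the blow-up of an affine scheme. -/

set_option autoImplicit false

universe u

open CategoryTheory Limits AlgebraicGeometry TopologicalSpace Polynomial

namespace Groth.Agent.H26Blow

variable {A : Type u} [CommRing A] (I : Ideal A)

/-- The centre as an ideal sheaf on `Spec A`. -/
noncomputable abbrev centre : (Spec (CommRingCat.of A)).IdealSheafData :=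
  Scheme.IdealSheafData.ofIdealTop (I.map (Scheme.ΓSpecIso (CommRingCat.of A)).inv.hom)

/-- The structure map of `Proj` of the Rees algebra. -/
noncomputable def π : Proj (gr I) ⟶ Spec (CommRingCat.of A) :=
  Proj.toSpecZero (gr I) ≫ Spec.map (CommRingCat.ofHom (algebraMap A (gr I 0)))

section Chart

variable (a : I)

/-- The chart at `a X`. -/
noncomputable def j : Spec (CommRingCat.of (Alg I a)) ⟶ Proj (gr I) :=
  Spec.map (chartEquiv I a).toCommRingCatIso.hom ≫ Proj.awayι (gr I) (T I a) (T_mem I a) Nat.one_pos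

instance : IsOpenImmersion (j I a) := by unfold j; infer_instance

lemma opensRange_j : (j I a).opensRange = Proj.basicOpen (gr I) (T I a) :=
  (Scheme.Hom.opensRange_comp_of_isIso _ _).trans (Proj.opensRange_awayι ..)

lemma toLoc_algebraMap (r : A) :
    toLoc I a (HomogeneousLocalization.fromZeroRingHom (gr I) _ (algebraMap A (gr I 0) r)) = algebraMap A _ r := by
  have hr : algebraMap A (reesAlgebra I) r ∈ gr I (0 • 1) := by
    rw [zero_smul]; exact (algebraMap A (gr I 0) r).2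
  have e : HomogeneousLocalization.fromZeroRingHom (gr I) (Submonoid.powers (T I a)) (algebraMap A (gr I 0) r) =
      HomogeneousLocalization.Away.mk (gr I) (T_mem I a) 0 _ hr := by
    apply HomogeneousLocalization.val_injective
    rw [HomogeneousLocalization.Away.val_mk]
    refine (HomogeneousLocalization.val_mk _).trans ?_
    congr 1
  rw [e]
  have h := toLoc_mk I a 0 _ hr
  rw [pow_zero, mul_one] at h
  rw [h]
  congr 1
  exact coeff_C_zero

lemma j_π : j I a ≫ π I = Spec.map (CommRingCat.ofHom (algebraMap A (Alg I a))) := by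
  rw [j, π, Category.assoc, Proj.awayι_toSpecZero_assoc, ← Spec.map_comp, ← Spec.map_comp]
  congr 1
  ext r
  exact toLoc_algebraMap I a r

/-- `x / a`. -/
noncomputable def frac (x : I) : Alg I a :=
  ⟨IsLocalization.mk' (Localization.Away (a : A)) (x : A) ⟨(a : A), Submonoid.mem_powers _⟩,
    Algebra.subset_adjoin ⟨x, x.2, rfl⟩⟩

lemma frac_spec (x : I) : frac I a x * algebraMap A _ (a : A) = algebraMap A _ (x : A) :=
  Subtype.ext (IsLocalization.mk'_spec _ (x : A) _)

lemma isLocalizationElem_eq (b : I) :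
    chartEquiv I a (HomogeneousLocalization.Away.isLocalizationElem (T_mem I a) (T_mem I b)) = frac I a b := by
  apply Subtype.ext
  rw [coe_chartEquiv]
  refine Eq.trans ?_ (mk_T_toLoc I a b)
  congr 1
  apply HomogeneousLocalization.val_injective
  rw [HomogeneousLocalization.Away.val_mk, HomogeneousLocalization.Away.val_mk]
  congr 1
  exact pow_one _

lemma j_preimage (b : I) :
    j I a ⁻¹ᵁ Proj.basicOpen (gr I) (T I b) = PrimeSpectrum.basicOpen (R := Alg I a) (frac I a b) := by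
  rw [j, Scheme.Hom.comp_preimage,
    Proj.awayι_preimage_basicOpen (gr I) (T_mem I a) Nat.one_pos (T_mem I b) Nat.one_pos, ← isLocalizationElem_eq]
  rfl

lemma mem_basicOpen_j (b : I) (w : Spec (CommRingCat.of (Alg I a))) :
    j I a w ∈ Proj.basicOpen (gr I) (T I b) ↔ w ∈ PrimeSpectrum.basicOpen (R := Alg I a) (frac I a b) :=
  iff_of_eq (congrArg (w ∈ ·) (j_preimage I a b))

end Chart

lemma monomial_mem_span_T {n : ℕ} {c : A} (hc : c ∈ I ^ (n + 1)) :
    (⟨monomial (n + 1) c, reesAlgebra.monomial_mem.2 hc⟩ : reesAlgebra I) ∈ Ideal.span (Set.range (T I)) := by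
  have hs : ∀ c ∈ I * I ^ n, ∃ h : c ∈ I ^ (n + 1),
      (⟨monomial (n + 1) c, reesAlgebra.monomial_mem.2 h⟩ : reesAlgebra I) ∈ Ideal.span (Set.range (T I)) := by
    intro c hc
    refine Submodule.mul_induction_on hc (fun x hx y hy => ?_) (fun x y hx hy => ?_)
    · refine ⟨pow_succ' I n ▸ Ideal.mul_mem_mul hx hy, ?_⟩
      have : (⟨monomial (n + 1) (x * y), reesAlgebra.monomial_mem.2 (pow_succ' I n ▸ Ideal.mul_mem_mul hx hy)⟩ : reesAlgebra I) =
          T I ⟨x, hx⟩ * ⟨monomial n y, reesAlgebra.monomial_mem.2 hy⟩ := by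
        apply Subtype.ext
        show monomial (n + 1) (x * y) = monomial 1 x * monomial n y
        rw [monomial_mul_monomial, add_comm]
      rw [this]
      exact Ideal.mul_mem_right _ _ (Ideal.subset_span ⟨_, rfl⟩)
    · obtain ⟨h₁, h₁'⟩ := hx
      obtain ⟨h₂, h₂'⟩ := hy
      refine ⟨add_mem h₁ h₂, ?_⟩
      have : (⟨monomial (n + 1) (x + y), reesAlgebra.monomial_mem.2 (add_mem h₁ h₂)⟩ : reesAlgebra I) =
          ⟨monomial (n + 1) x, reesAlgebra.monomial_mem.2 h₁⟩ + ⟨monomial (n + 1) y, reesAlgebra.monomial_mem.2 h₂⟩ :=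
        Subtype.ext (map_add _ _ _)
      rw [this]
      exact add_mem h₁' h₂'
  exact (hs c (pow_succ' I n ▸ hc)).2

lemma iSup_basicOpen : ⨆ a : I, Proj.basicOpen (gr I) (T I a) = ⊤ := by
  classical
  refine Proj.iSup_basicOpen_eq_top (gr I) _ fun x hx => ?_
  have h0 : GradedRing.proj (gr I) 0 x = 0 := (HomogeneousIdeal.mem_irrelevant_iff _ _).mp hx
  rw [← DirectSum.sum_support_decompose (gr I) x]
  refine sum_mem fun n _ => ?_
  match n with
  | 0 => rw [← GradedRing.proj_apply, h0]; exact zero_mem _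
  | m + 1 =>
    set y := (DirectSum.decompose (gr I) x (m + 1) : reesAlgebra I)
    have hy : y ∈ gr I (m + 1) := (DirectSum.decompose (gr I) x (m + 1)).2
    have : y = ⟨monomial (m + 1) ((y : A[X]).coeff (m + 1)),
        reesAlgebra.monomial_mem.2 ((mem_reesAlgebra_iff I _).1 y.2 _)⟩ := Subtype.ext (eq_monomial I hy)
    rw [this]
    exact monomial_mem_span_T I ((mem_reesAlgebra_iff I _).1 y.2 _)

/-- The cover by the charts. -/
noncomputable def chartCover : (Proj (gr I)).OpenCover where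
  I₀ := I
  X a := Spec (CommRingCat.of (Alg I a))
  f a := j I a
  mem₀ := by
    rw [Scheme.presieve₀_mem_precoverage_iff]
    refine ⟨fun x => ?_, fun a => inferInstanceAs (IsOpenImmersion (j I a))⟩
    obtain ⟨a, ha⟩ := Opens.mem_iSup.1 ((iSup_basicOpen I).ge (Set.mem_univ x))
    rw [← opensRange_j] at ha
    exact ⟨a, ha⟩

lemma ideal_centre_top :
    (centre I).ideal ⟨⊤, isAffineOpen_top _⟩ = I.map (Scheme.ΓSpecIso (CommRingCat.of A)).inv.hom := by
  rw [Scheme.IdealSheafData.ofIdealTop_ideal]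
  erw [show homOfLE (le_top : (⊤ : (Spec (CommRingCat.of A)).Opens) ≤ ⊤) = 𝟙 _ from rfl, op_id,
    CategoryTheory.Functor.map_id, CommRingCat.hom_id, Ideal.map_id]

lemma ideal_centre_comap {R : CommRingCat.{u}} (φ : CommRingCat.of A ⟶ R) :
    ((centre I).comap (Spec.map φ)).ideal ⟨⊤, isAffineOpen_top _⟩ =
      (I.map φ.hom).map (Scheme.ΓSpecIso R).inv.hom := by
  rw [H29Blow.ideal_comap_top, ideal_centre_top, Ideal.map_map, Ideal.map_map]
  have e : (Spec.map φ).appTop.hom.comp ((Scheme.ΓSpecIso (CommRingCat.of A)).inv.hom) =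
      ((Scheme.ΓSpecIso R).inv.hom).comp φ.hom := by
    rw [← CommRingCat.hom_comp, ← CommRingCat.hom_comp, Scheme.ΓSpecIso_inv_naturality]
  rw [← e]

lemma isEff_π : BlowUp.IsEffCartierIdeal ((centre I).comap (π I)) := by
  refine H26ModPair.isEff_of_openCover (chartCover I) fun (a : I) => ?_
  show BlowUp.IsEffCartierIdeal (((centre I).comap (π I)).comap (j I a))
  rw [← Scheme.IdealSheafData.comap_comp, j_π]
  intro x
  refine ⟨⟨⊤, isAffineOpen_top _⟩, trivial,
    (Scheme.ΓSpecIso (CommRingCat.of (Alg I a))).inv.hom (algebraMap A (Alg I a) (a : A)), ?_, ?_⟩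
  · refine mem_nonZeroDivisors_iff_right.2 fun z hz => ?_
    obtain ⟨w, rfl⟩ := (ConcreteCategory.bijective_of_isIso (Scheme.ΓSpecIso (CommRingCat.of (Alg I a))).inv).2 z
    have h : w * algebraMap A (Alg I a) (a : A) = 0 := by
      apply (ConcreteCategory.bijective_of_isIso (Scheme.ΓSpecIso (CommRingCat.of (Alg I a))).inv).1
      rw [map_mul, map_zero]; exact hz
    rw [mem_nonZeroDivisors_iff_right.1 (algebraMap_mem_nonZeroDivisors I a) w h]
    exact map_zero _
  · rw [ideal_centre_comap, CommRingCat.hom_ofHom, map_eq_span, Ideal.map_span, Set.image_singleton]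

/-- `a` generates the inverse image of the ideal and is regular. -/
def Gen {R : Type u} [CommRing R] (φ : A →+* R) (a : I) : Prop :=
  φ (a : A) ∈ nonZeroDivisors R ∧ ∀ x ∈ I, φ x ∈ Ideal.span {φ (a : A)}

lemma existsUnique_of_gen {R : CommRingCat.{u}} (φ : CommRingCat.of A ⟶ R) (a : I) (hφ : Gen I φ.hom a) :
    ∃! h : Spec R ⟶ Proj (gr I), h ≫ π I = Spec.map φ := by
  obtain ⟨ψ, hψ, huniq⟩ := existsUnique_lift I a φ.hom hφ.1 hφ.2
  refine ⟨Spec.map (CommRingCat.ofHom ψ) ≫ j I a, ?_, fun h hh => ?_⟩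
  · show (_ ≫ _) ≫ _ = _
    rw [Category.assoc, j_π, ← Spec.map_comp]
    congr 1
    exact CommRingCat.hom_ext hψ
  have hrange : Set.range h ⊆ Set.range (j I a) := by
    rintro _ ⟨z, rfl⟩
    obtain ⟨b, hb⟩ := Opens.mem_iSup.1 ((iSup_basicOpen I).ge (Set.mem_univ (h z)))
    obtain ⟨_, ⟨r, rfl⟩, hzr, hrV⟩ := Opens.isBasis_iff_nbhd.1 (PrimeSpectrum.isBasis_basic_opens (R := R))
      (U := h ⁻¹ᵁ Proj.basicOpen (gr I) (T I b)) (x := z) hb
    let k : Spec (CommRingCat.of (Localization.Away r)) ⟶ Spec R :=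
      Spec.map (CommRingCat.ofHom (algebraMap R (Localization.Away r)))
    have hk : Set.range k = (PrimeSpectrum.basicOpen r : Set (PrimeSpectrum R)) :=
      PrimeSpectrum.localization_away_comap_range _ r
    obtain ⟨z', hz'⟩ : z ∈ Set.range k := hk ▸ hzr
    have hr' : Set.range (k ≫ h) ⊆ Set.range (j I b) := by
      rintro _ ⟨w, rfl⟩
      have hw : h (k w) ∈ Proj.basicOpen (gr I) (T I b) := hrV ((Set.ext_iff.1 hk (k w)).1 ⟨w, rfl⟩)
      rw [← opensRange_j] at hw
      exact hw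
    let l := IsOpenImmersion.lift (j I b) (k ≫ h) hr'
    have hl : l ≫ j I b = k ≫ h := IsOpenImmersion.lift_fac _ _ _
    let ψb := Spec.preimage l
    have hψb : CommRingCat.ofHom (algebraMap A (Alg I b)) ≫ ψb = φ ≫ CommRingCat.ofHom (algebraMap R (Localization.Away r)) := by
      apply Spec.map_injective
      rw [Spec.map_comp, Spec.map_comp, Spec.map_preimage, ← j_π, reassoc_of% hl, hh]
    let φ' : A →+* Localization.Away r := (algebraMap R (Localization.Away r)).comp φ.hom
    have hψb' : ∀ x, ψb.hom (algebraMap A (Alg I b) x) = φ' x := fun x => RingHom.congr_fun (congrArg CommRingCat.Hom.hom hψb) x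
    have hreg : φ' (a : A) ∈ nonZeroDivisors (Localization.Away r) :=
      IsLocalization.nonZeroDivisors_le_comap (Submonoid.powers r) (Localization.Away r) hφ.1
    obtain ⟨t, ht⟩ := Ideal.mem_span_singleton'.1 (hφ.2 b b.2)
    have hu : ψb.hom (frac I b a) * algebraMap R _ t = 1 := by
      have h1 : ψb.hom (frac I b a) * φ' (b : A) = φ' (a : A) := by
        rw [← hψb', ← hψb', ← map_mul, frac_spec]
      have h2 : φ' (b : A) = algebraMap R _ t * φ' (a : A) := by
        show algebraMap R _ (φ.hom (b : A)) = _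
        rw [← ht, map_mul]; rfl
      refine (mul_cancel_right_mem_nonZeroDivisors hreg).1 ?_
      rw [mul_assoc, ← h2, h1, one_mul]
    have hz : l z' ∈ PrimeSpectrum.basicOpen (frac I b a) := by
      have : l z' = Spec.map ψb z' := by rw [Spec.map_preimage]
      rw [this]
      intro hmem
      have hz'' := Ideal.mul_mem_right (algebraMap R _ t) z'.asIdeal (show ψb.hom (frac I b a) ∈ z'.asIdeal from hmem)
      rw [hu] at hz''
      exact z'.isPrime.ne_top ((Ideal.eq_top_iff_one _).2 hz'')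
    rw [← mem_basicOpen_j, ← opensRange_j] at hz
    have e : j I b (l z') = h z := by
      rw [← hz', ← Scheme.Hom.comp_apply, ← Scheme.Hom.comp_apply, hl]
    exact e ▸ hz
  let l := IsOpenImmersion.lift (j I a) h hrange
  have hl : l ≫ j I a = h := IsOpenImmersion.lift_fac _ _ _
  have hψ' : CommRingCat.ofHom (algebraMap A (Alg I a)) ≫ Spec.preimage l = φ := by
    apply Spec.map_injective
    rw [Spec.map_comp, Spec.map_preimage, ← j_π, reassoc_of% hl, hh]
  have := huniq (Spec.preimage l).hom (congrArg CommRingCat.Hom.hom hψ')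
  rw [← hl, ← Spec.map_preimage l]
  congr 2
  exact CommRingCat.hom_ext this

lemma exists_gen_chart {Y : Scheme.{u}} (g : Y ⟶ Spec (CommRingCat.of A))
    (hg : BlowUp.IsEffCartierIdeal ((centre I).comap g)) (y : Y) :
    ∃ (R : CommRingCat.{u}) (k : Spec R ⟶ Y) (_ : IsOpenImmersion k) (φ : CommRingCat.of A ⟶ R) (a : I),
      y ∈ Set.range k ∧ k ≫ g = Spec.map φ ∧ Gen I φ.hom a := by
  obtain ⟨U, hy, f, hf, hfU⟩ := hg y
  have hle : U.1 ≤ g ⁻¹ᵁ ⊤ := le_top
  set φU := (Scheme.ΓSpecIso (CommRingCat.of A)).inv ≫ g.appLE ⊤ U.1 hle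
  have hideal : I.map φU.hom = Ideal.span {f} := by
    rw [← hfU, H29Blow.ideal_comap (centre I) g ⟨⊤, isAffineOpen_top _⟩ U hle]
    rw [ideal_centre_top, CommRingCat.hom_comp, ← Ideal.map_map]
  let K : Ideal Γ(Y, U.1) := Ideal.span {v | ∃ a ∈ I, φU.hom a = v * f}
  have hK : K = ⊤ := by
    have hle' : I.map φU.hom ≤ K * Ideal.span {f} := by
      refine Ideal.map_le_iff_le_comap.2 fun x hx => ?_
      obtain ⟨v, hv⟩ := Ideal.mem_span_singleton'.1 (hideal ▸ Ideal.mem_map_of_mem φU.hom hx)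
      exact Ideal.mem_mul_span_singleton.2 ⟨v, Ideal.subset_span ⟨x, hx, hv.symm⟩, hv⟩
    obtain ⟨v, hv, hvf⟩ := Ideal.mem_mul_span_singleton.1 (hle' (hideal ▸ Ideal.mem_span_singleton_self f))
    have : v = 1 := (mul_cancel_right_mem_nonZeroDivisors hf).1 (hvf.trans (one_mul f).symm)
    exact (Ideal.eq_top_iff_one _).2 (this ▸ hv)
  obtain ⟨⟨v, a, ha, hav⟩, hyv⟩ := Opens.mem_iSup.mp
    (((U.2.self_le_iSup_basicOpen_iff (s := {v : Γ(Y, U.1) | ∃ a ∈ I, φU.hom a = v * f})).mpr hK) hy)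
  let V : Y.affineOpens := Y.affineBasicOpen v
  have hVU : V.1 ≤ U.1 := Y.basicOpen_le v
  let res := Y.presheaf.map (homOfLE hVU).op
  let φ : CommRingCat.of A ⟶ Γ(Y, V.1) := φU ≫ res
  refine ⟨Γ(Y, V.1), V.2.fromSpec, inferInstance, φ, ⟨a, ha⟩, ?_, ?_, ?_, ?_⟩
  · rw [V.2.range_fromSpec]; exact hyv
  · have h1 := IsAffineOpen.SpecMap_appLE_fromSpec g (isAffineOpen_top _) V.2 le_top
    rw [IsAffineOpen.fromSpec_top, Scheme.isoSpec_Spec_inv, ← Spec.map_comp] at h1
    rw [← h1]
    congr 1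
    simp only [φ, φU, res, Category.assoc, Scheme.Hom.appLE_map]
  · show res.hom (φU.hom a) ∈ _
    rw [hav, map_mul]
    exact mul_mem (RingedSpace.isUnit_res_basicOpen _ v).mem_nonZeroDivisors (H29Blow.res_mem_nonZeroDivisors hVU hf)
  · intro x hx
    obtain ⟨w, hw⟩ := Ideal.mem_span_singleton'.1 (hideal ▸ Ideal.mem_map_of_mem φU.hom hx)
    show res.hom (φU.hom x) ∈ Ideal.span {res.hom (φU.hom a)}
    obtain ⟨q, hq⟩ : IsUnit (res.hom v) := RingedSpace.isUnit_res_basicOpen _ v
    refine Ideal.mem_span_singleton'.2 ⟨res.hom w * ↑q⁻¹, ?_⟩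
    rw [hav, ← hw, map_mul, map_mul, ← hq, mul_assoc, ← mul_assoc (↑q⁻¹ : Γ(Y, V.1)), Units.inv_mul, one_mul]

lemma hom_ext_blowUp {Y : Scheme.{u}} (g : Y ⟶ Spec (CommRingCat.of A))
    (hg : BlowUp.IsEffCartierIdeal ((centre I).comap g)) (h₁ h₂ : Y ⟶ Proj (gr I)) (e₁ : h₁ ≫ π I = g)
    (e₂ : h₂ ≫ π I = g) : h₁ = h₂ := by
  choose R k hk φ a hmem hcomm hgen using exists_gen_chart I g hg
  let 𝒰 : Y.OpenCover :=
    { I₀ := Y
      X := fun y => Spec (R y)
      f := k
      mem₀ := by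
        rw [Scheme.presieve₀_mem_precoverage_iff]
        exact ⟨fun y => ⟨y, hmem y⟩, hk⟩ }
  refine 𝒰.hom_ext _ _ fun y => ?_
  obtain ⟨h, -, huniq⟩ := existsUnique_of_gen I (φ y) (a y) (hgen y)
  show k y ≫ h₁ = k y ≫ h₂
  rw [huniq (k y ≫ h₁) (by show _ = _; rw [Category.assoc, e₁, hcomm]), huniq (k y ≫ h₂) (by show _ = _; rw [Category.assoc, e₂, hcomm])]

theorem isBlowUp_π : BlowUp.IsBlowUp (π I) (centre I) := by
  refine ⟨isEff_π I, fun Y g hg => ?_⟩
  choose R k hk φ a hmem hcomm hgen using exists_gen_chart I g hg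
  let 𝒰 : Y.OpenCover :=
    { I₀ := Y
      X := fun y => Spec (R y)
      f := k
      mem₀ := by
        rw [Scheme.presieve₀_mem_precoverage_iff]
        exact ⟨fun y => ⟨y, hmem y⟩, hk⟩ }
  choose h hh huniq using fun y => existsUnique_of_gen I (φ y) (a y) (hgen y)
  have hh' : ∀ y, h y ≫ π I = k y ≫ g := fun y => (hh y).trans (hcomm y).symm
  have hcompat : ∀ y z, pullback.fst (k y) (k z) ≫ h y = pullback.snd (k y) (k z) ≫ h z := fun y z => by
    haveI := hk y
    haveI := hk z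
    refine hom_ext_blowUp I (pullback.fst (k y) (k z) ≫ k y ≫ g) ?_ _ _ (by rw [Category.assoc, hh']) ?_
    · rw [← Category.assoc, Scheme.IdealSheafData.comap_comp]
      exact H29Blow.isEffCartierIdeal_comap_of_flat hg _
    · rw [Category.assoc, hh', pullback.condition_assoc]
  let H := 𝒰.glueMorphisms h hcompat
  have hH : H ≫ π I = g := 𝒰.hom_ext _ _ fun y => by
    rw [← Category.assoc, 𝒰.ι_glueMorphisms]; exact hh' y
  exact ⟨H, hH, fun H' hH' => hom_ext_blowUp I g hg _ _ hH' hH⟩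

end Groth.Agent.H26Blow
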