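import Groth.Agent.H26Blow.Affine
import Groth.Agent.S1680
import Mathlib.AlgebraicGeometry.RelativeGluing
import Mathlib.AlgebraicGeometry.Sites.SmallAffineZariski

/-! Existence of blow-ups of arbitrary schemes in quasi-coherent ideals. -/

set_option autoImplicit false

universe u

open CategoryTheory Limits AlgebraicGeometry TopologicalSpace

namespace Groth.Agent.H26Blow

variable {X : Scheme.{u}}

/-- Blow-ups are transported along isomorphisms of the base. -/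
lemma isBlowUp_comp_iso {X' Z : Scheme.{u}} {b : X' ⟶ X} {J : X.IdealSheafData}
    (hb : BlowUp.IsBlowUp b J) (e : Z ≅ X) : BlowUp.IsBlowUp (b ≫ e.inv) (J.comap e.hom) := by
  refine ⟨?_, fun Y g hg => ?_⟩
  · rw [← Scheme.IdealSheafData.comap_comp, Category.assoc, e.inv_hom_id, Category.comp_id]
    exact hb.1
  · rw [← Scheme.IdealSheafData.comap_comp] at hg
    obtain ⟨h, hh, hu⟩ := hb.2 Y (g ≫ e.hom) hg
    refine ⟨h, by simp [reassoc_of% hh], fun h' hh' => hu h' ?_⟩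
    simp [← hh']

theorem exists_isBlowUp_of_isAffine [IsAffine X] (J : X.IdealSheafData) :
    ∃ (X' : Scheme.{u}) (b : X' ⟶ X), BlowUp.IsBlowUp b J := by
  let A : CommRingCat.{u} := Γ(X, ⊤)
  let I : Ideal A := ((J.comap X.isoSpec.inv).ideal ⟨⊤, isAffineOpen_top (Spec A)⟩).map
    (Scheme.ΓSpecIso A).hom.hom
  have hI : centre I = J.comap X.isoSpec.inv := by
    refine Scheme.IdealSheafData.ext_of_isAffine ?_
    refine (ideal_centre_top I).trans ?_
    dsimp only [I]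
    erw [Ideal.map_map, ← CommRingCat.hom_comp, Iso.hom_inv_id, CommRingCat.hom_id, Ideal.map_id]
  refine ⟨_, π I ≫ X.isoSpec.inv, ?_⟩
  have := isBlowUp_comp_iso (isBlowUp_π I) X.isoSpec
  rw [hI, ← Scheme.IdealSheafData.comap_comp, Iso.hom_inv_id, Scheme.IdealSheafData.comap_id] at this
  exact this

section Glue

variable (𝓘 : X.IdealSheafData)

lemma exists_local (U : X.AffineZariskiSite) :
    ∃ (X' : Scheme.{u}) (b : X' ⟶ (U.1 : Scheme.{u})), BlowUp.IsBlowUp b (𝓘.comap U.1.ι) :=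
  haveI : IsAffine (U.1 : Scheme.{u}) := U.2
  exists_isBlowUp_of_isAffine _

/-- A chosen blow-up over an affine open. -/
noncomputable def part (U : X.AffineZariskiSite) : Scheme.{u} := (exists_local 𝓘 U).choose

/-- Its structure map. -/
noncomputable def partMap (U : X.AffineZariskiSite) : part 𝓘 U ⟶ (U.1 : Scheme.{u}) :=
  (exists_local 𝓘 U).choose_spec.choose

lemma isBlowUp_partMap (U : X.AffineZariskiSite) : BlowUp.IsBlowUp (partMap 𝓘 U) (𝓘.comap U.1.ι) :=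
  (exists_local 𝓘 U).choose_spec.choose_spec

lemma part_hom_ext {U : X.AffineZariskiSite} {Y : Scheme.{u}} (g : Y ⟶ X)
    (hg : BlowUp.IsEffCartierIdeal (𝓘.comap g)) {h₁ h₂ : Y ⟶ part 𝓘 U}
    (e₁ : h₁ ≫ partMap 𝓘 U ≫ U.1.ι = g) (e₂ : h₂ ≫ partMap 𝓘 U ≫ U.1.ι = g) : h₁ = h₂ := by
  obtain ⟨h, -, hu⟩ := (isBlowUp_partMap 𝓘 U).2 Y (h₁ ≫ partMap 𝓘 U) (by
    rw [← Scheme.IdealSheafData.comap_comp, Category.assoc, e₁]; exact hg)
  rw [hu h₁ rfl, hu h₂ ((cancel_mono U.1.ι).1 (by rw [Category.assoc, Category.assoc, e₁, e₂]))]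

lemma exists_trans {U V : X.AffineZariskiSite} (i : V ⟶ U) :
    ∃ m : part 𝓘 V ⟶ part 𝓘 U,
      m ≫ partMap 𝓘 U = partMap 𝓘 V ≫ X.homOfLE (Scheme.AffineZariskiSite.toOpens_mono i.le) := by
  refine ((isBlowUp_partMap 𝓘 U).2 _
    (partMap 𝓘 V ≫ X.homOfLE (Scheme.AffineZariskiSite.toOpens_mono i.le)) ?_).exists
  rw [← Scheme.IdealSheafData.comap_comp, Category.assoc, Scheme.homOfLE_ι, Scheme.IdealSheafData.comap_comp]
  exact (isBlowUp_partMap 𝓘 V).1

/-- The transition maps. -/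
noncomputable def trans {U V : X.AffineZariskiSite} (i : V ⟶ U) : part 𝓘 V ⟶ part 𝓘 U :=
  (exists_trans 𝓘 i).choose

@[reassoc]
lemma trans_partMap {U V : X.AffineZariskiSite} (i : V ⟶ U) :
    trans 𝓘 i ≫ partMap 𝓘 U = partMap 𝓘 V ≫ X.homOfLE (Scheme.AffineZariskiSite.toOpens_mono i.le) :=
  (exists_trans 𝓘 i).choose_spec

lemma trans_partMap_ι {U V : X.AffineZariskiSite} (i : V ⟶ U) :
    trans 𝓘 i ≫ partMap 𝓘 U ≫ U.1.ι = partMap 𝓘 V ≫ V.1.ι := by
  rw [trans_partMap_assoc, Scheme.homOfLE_ι]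

lemma isEff_part (U : X.AffineZariskiSite) :
    BlowUp.IsEffCartierIdeal (𝓘.comap (partMap 𝓘 U ≫ U.1.ι)) := by
  rw [Scheme.IdealSheafData.comap_comp]; exact (isBlowUp_partMap 𝓘 U).1

/-- The functor of local blow-ups. -/
noncomputable def partFunctor : X.AffineZariskiSite ⥤ Scheme.{u} where
  obj := part 𝓘
  map i := trans 𝓘 i
  map_id U := part_hom_ext 𝓘 _ (isEff_part 𝓘 U) (trans_partMap_ι 𝓘 _) (Category.id_comp _)
  map_comp i j := part_hom_ext 𝓘 _ (isEff_part 𝓘 _) (trans_partMap_ι 𝓘 _)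
    (by rw [Category.assoc, trans_partMap_ι, trans_partMap_ι])

lemma isPullback_trans {U V : X.AffineZariskiSite} (i : V ⟶ U) :
    IsPullback (trans 𝓘 i) (partMap 𝓘 V) (partMap 𝓘 U)
      (X.homOfLE (Scheme.AffineZariskiSite.toOpens_mono i.le)) := by
  set e : (V.1 : Scheme.{u}) ⟶ U.1 := X.homOfLE (Scheme.AffineZariskiSite.toOpens_mono i.le) with he
  have hP := Groth.Agent.S1680.result e (𝓘.comap U.1.ι) (partMap 𝓘 U) (isBlowUp_partMap 𝓘 U)
  rw [← Scheme.IdealSheafData.comap_comp, he, Scheme.homOfLE_ι, ← he] at hP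
  have hV := isBlowUp_partMap 𝓘 V
  obtain ⟨a, ha, -⟩ := hP.2 _ (partMap 𝓘 V) hV.1
  obtain ⟨c, hc, -⟩ := hV.2 _ (pullback.fst e (partMap 𝓘 U)) hP.1
  have hac : a ≫ c = 𝟙 _ := by
    obtain ⟨m, -, hu⟩ := hV.2 _ (partMap 𝓘 V) hV.1
    rw [hu (a ≫ c) (by show _ = _; rw [Category.assoc, hc, ha]), hu (𝟙 _) (Category.id_comp _)]
  have hca : c ≫ a = 𝟙 _ := by
    obtain ⟨m, -, hu⟩ := hP.2 _ (pullback.fst e (partMap 𝓘 U)) hP.1
    rw [hu (c ≫ a) (by show _ = _; rw [Category.assoc, ha, hc]), hu (𝟙 _) (Category.id_comp _)]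
  have ht : a ≫ pullback.snd e (partMap 𝓘 U) = trans 𝓘 i :=
    part_hom_ext 𝓘 _ (isEff_part 𝓘 V)
      (by rw [Category.assoc, ← pullback.condition_assoc, reassoc_of% ha, he, Scheme.homOfLE_ι])
      (trans_partMap_ι 𝓘 i)
  exact IsPullback.of_iso_pullback ⟨(trans_partMap 𝓘 i).symm⟩ ⟨a, c, hac, hca⟩ ha ht |>.flip

/-- The gluing datum of local blow-ups. -/
noncomputable def blowGlueData : (Scheme.AffineZariskiSite.directedCover X).RelativeGluingData where
  functor := partFunctor 𝓘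
  natTrans :=
    { app := fun U => partMap 𝓘 U
      naturality := fun _ _ i => trans_partMap 𝓘 i }
  equifibered := fun _ _ i => isPullback_trans 𝓘 i

instance : ((blowGlueData 𝓘).functor ⋙ Scheme.forget).IsLocallyDirected :=
  Scheme.Cover.RelativeGluingData.instIsLocallyDirectedI₀CompFunctorForgetOfIsThin ..

/-- The blow-up of `X` in `𝓘`. -/
noncomputable abbrev blowUp : Scheme.{u} := (blowGlueData 𝓘).glued

/-- Its structure map. -/
noncomputable abbrev blowUpMap : blowUp 𝓘 ⟶ X := (blowGlueData 𝓘).toBase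

lemma isPullback_part (U : X.AffineZariskiSite) :
    IsPullback (partMap 𝓘 U) (colimit.ι (blowGlueData 𝓘).functor U) U.1.ι (blowUpMap 𝓘) :=
  (blowGlueData 𝓘).isPullback_natTrans_ι_toBase U

lemma blowUp_hom_ext {Y : Scheme.{u}} (g : Y ⟶ X) (hg : BlowUp.IsEffCartierIdeal (𝓘.comap g))
    {h₁ h₂ : Y ⟶ blowUp 𝓘} (e₁ : h₁ ≫ blowUpMap 𝓘 = g) (e₂ : h₂ ≫ blowUpMap 𝓘 = g) : h₁ = h₂ := by
  have key : ∀ U : X.AffineZariskiSite, pullback.fst g U.1.ι ≫ h₁ = pullback.fst g U.1.ι ≫ h₂ := fun U => by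
    obtain ⟨l₁, l₁a, l₁b⟩ := (isPullback_part 𝓘 U).exists_lift (pullback.snd g U.1.ι) (pullback.fst g U.1.ι ≫ h₁)
      (by rw [Category.assoc, e₁, pullback.condition])
    obtain ⟨l₂, l₂a, l₂b⟩ := (isPullback_part 𝓘 U).exists_lift (pullback.snd g U.1.ι) (pullback.fst g U.1.ι ≫ h₂)
      (by rw [Category.assoc, e₂, pullback.condition])
    have hl : l₁ = l₂ := part_hom_ext 𝓘 (pullback.fst g U.1.ι ≫ g)
      (by rw [Scheme.IdealSheafData.comap_comp]; exact H29Blow.isEffCartierIdeal_comap_of_flat hg _)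
      (by rw [reassoc_of% l₁a, pullback.condition]) (by rw [reassoc_of% l₂a, pullback.condition])
    rw [← l₁b, ← l₂b, hl]
  exact Scheme.Cover.hom_ext ((Scheme.AffineZariskiSite.directedCover X).pullback₁ g) _ _ fun U => key U

theorem isBlowUp_blowUpMap : BlowUp.IsBlowUp (blowUpMap 𝓘) 𝓘 := by
  refine ⟨H26ModPair.isEff_of_openCover (blowGlueData 𝓘).cover fun U => ?_, fun Y g hg => ?_⟩
  · rw [← Scheme.IdealSheafData.comap_comp]
    have : (blowGlueData 𝓘).cover.f U ≫ blowUpMap 𝓘 = partMap 𝓘 U ≫ (U : X.AffineZariskiSite).1.ι :=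
      (isPullback_part 𝓘 U).w.symm
    rw [this]
    exact isEff_part 𝓘 U
  · let 𝒰 : Y.OpenCover := (Scheme.AffineZariskiSite.directedCover X).pullback₁ g
    have key : ∀ U : X.AffineZariskiSite, ∃ k : pullback g U.1.ι ⟶ blowUp 𝓘,
        k ≫ blowUpMap 𝓘 = pullback.fst g U.1.ι ≫ g := fun U => by
      obtain ⟨h, hh, -⟩ := (isBlowUp_partMap 𝓘 U).2 _ (pullback.snd g U.1.ι) (by
        rw [← Scheme.IdealSheafData.comap_comp, ← pullback.condition, Scheme.IdealSheafData.comap_comp]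
        exact H29Blow.isEffCartierIdeal_comap_of_flat hg _)
      exact ⟨h ≫ colimit.ι (blowGlueData 𝓘).functor U, by
        rw [Category.assoc, ← (isPullback_part 𝓘 U).w, reassoc_of% hh, pullback.condition]⟩
    choose k hk using key
    have hcompat : ∀ U V : X.AffineZariskiSite,
        pullback.fst (pullback.fst g U.1.ι) (pullback.fst g V.1.ι) ≫ k U =
          pullback.snd (pullback.fst g U.1.ι) (pullback.fst g V.1.ι) ≫ k V := fun U V => by
      refine blowUp_hom_ext 𝓘 (pullback.fst (pullback.fst g U.1.ι) (pullback.fst g V.1.ι) ≫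
          pullback.fst g U.1.ι ≫ g) ?_ (by rw [Category.assoc, hk]) ?_
      · rw [← Category.assoc, Scheme.IdealSheafData.comap_comp]
        exact H29Blow.isEffCartierIdeal_comap_of_flat hg _
      · rw [Category.assoc, hk, pullback.condition_assoc]
    let H : Y ⟶ blowUp 𝓘 := Scheme.Cover.glueMorphisms 𝒰 k hcompat
    have hH : H ≫ blowUpMap 𝓘 = g := Scheme.Cover.hom_ext 𝒰 _ _ fun U => by
      rw [← Category.assoc, Scheme.Cover.ι_glueMorphisms]; exact hk U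
    exact ⟨H, hH, fun H' hH' => blowUp_hom_ext 𝓘 g hg hH' hH⟩

theorem exists_isBlowUp (𝓘 : X.IdealSheafData) :
    ∃ (X' : Scheme.{u}) (b : X' ⟶ X), BlowUp.IsBlowUp b 𝓘 :=
  ⟨_, _, isBlowUp_blowUpMap 𝓘⟩

/-- Two blow-ups in the same centre are isomorphic over the base. -/
lemma exists_iso_of_isBlowUp {X' X'' : Scheme.{u}} {b : X' ⟶ X} {b' : X'' ⟶ X} {J : X.IdealSheafData}
    (hb : BlowUp.IsBlowUp b J) (hb' : BlowUp.IsBlowUp b' J) : ∃ e : X' ≅ X'', e.hom ≫ b' = b := by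
  obtain ⟨h, hh, -⟩ := hb'.2 X' b hb.1
  obtain ⟨k, hk, -⟩ := hb.2 X'' b' hb'.1
  refine ⟨⟨h, k, ?_, ?_⟩, hh⟩
  · obtain ⟨m, -, hu⟩ := hb.2 _ b hb.1
    rw [hu (h ≫ k) (by show _ = _; rw [Category.assoc, hk, hh]), hu (𝟙 _) (Category.id_comp _)]
  · obtain ⟨m, -, hu⟩ := hb'.2 _ b' hb'.1
    rw [hu (k ≫ h) (by show _ = _; rw [Category.assoc, hh, hk]), hu (𝟙 _) (Category.id_comp _)]

end Glue

end Groth.Agent.H26Blow
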