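import Groth.Agent.H26Blow.Exists
import Mathlib.AlgebraicGeometry.ProjectiveSpectrum.Proper

/-! Blow-ups in ideals of finite type are proper. -/

set_option autoImplicit false

universe u

open CategoryTheory Limits AlgebraicGeometry TopologicalSpace Polynomial

namespace Groth.Agent.H26Blow

variable {X : Scheme.{u}}

lemma algebraMap_gr_zero_surjective {A : Type u} [CommRing A] (I : Ideal A) :
    Function.Surjective (algebraMap A (gr I 0)) := fun x => by
  refine ⟨((x : reesAlgebra I) : A[X]).coeff 0, Subtype.ext (Subtype.ext ?_)⟩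
  rw [eq_monomial I x.2]
  simp

lemma isProper_π {A : Type u} [CommRing A] {I : Ideal A} (hI : I.FG) : IsProper (π I) := by
  haveI : Algebra.FiniteType A (reesAlgebra I) :=
    (Subalgebra.fg_iff_finiteType _).1 (reesAlgebra.fg hI)
  haveI : IsScalarTower A (gr I 0) (reesAlgebra I) := IsScalarTower.of_algebraMap_eq (R := A) (S := gr I 0) (A := reesAlgebra I) fun _ => rfl
  haveI : Algebra.FiniteType (gr I 0) (reesAlgebra I) :=
    Algebra.FiniteType.of_restrictScalars_finiteType A (gr I 0) (reesAlgebra I)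
  haveI := IsClosedImmersion.spec_of_surjective (CommRingCat.ofHom (algebraMap A (gr I 0)) : CommRingCat.of A ⟶ CommRingCat.of (gr I 0)) (by exact algebraMap_gr_zero_surjective I)
  haveI : IsProper (Proj.toSpecZero (gr I)) := {}
  unfold π
  infer_instance

theorem isProper_of_isBlowUp_of_isAffine [IsAffine X] {J : X.IdealSheafData}
    (hJ : (J.ideal ⟨⊤, isAffineOpen_top X⟩).FG) {X' : Scheme.{u}} {b : X' ⟶ X} (hb : BlowUp.IsBlowUp b J) :
    IsProper b := by
  let A : CommRingCat.{u} := Γ(X, ⊤)
  let I : Ideal A := ((J.comap X.isoSpec.inv).ideal ⟨⊤, isAffineOpen_top (Spec A)⟩).map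
    (Scheme.ΓSpecIso A).hom.hom
  have hI : centre I = J.comap X.isoSpec.inv := by
    refine Scheme.IdealSheafData.ext_of_isAffine ?_
    refine (ideal_centre_top I).trans ?_
    dsimp only [I]
    erw [Ideal.map_map, ← CommRingCat.hom_comp, Iso.hom_inv_id, CommRingCat.hom_id, Ideal.map_id]
  have hfg : I.FG := by
    refine Ideal.FG.map ?_ _
    rw [H29Blow.ideal_comap_top]
    exact Ideal.FG.map hJ _
  have h := isBlowUp_comp_iso (isBlowUp_π I) X.isoSpec
  rw [hI, ← Scheme.IdealSheafData.comap_comp, Iso.hom_inv_id, Scheme.IdealSheafData.comap_id] at h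
  obtain ⟨e, he⟩ := exists_iso_of_isBlowUp hb h
  haveI := isProper_π hfg
  rw [← he]
  infer_instance

/-- A blow-up in a centre which is locally of finite type is proper. -/
theorem isProper_of_isBlowUp {J : X.IdealSheafData} {X' : Scheme.{u}} {b : X' ⟶ X} (hb : BlowUp.IsBlowUp b J)
    (h : ∀ x : X, ∃ U : X.affineOpens, x ∈ U.1 ∧ (J.ideal U).FG) : IsProper b := by
  choose U hxU hU using h
  refine IsZariskiLocalAtTarget.of_iSup_eq_top (P := @IsProper) (fun x => (U x).1)
    (top_le_iff.1 fun x _ => Opens.mem_iSup.2 ⟨x, hxU x⟩) fun x => ?_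
  haveI : IsAffine ((U x).1 : Scheme.{u}) := (U x).2
  have hx := Groth.Agent.S1680.result (U x).1.ι J b hb
  have : IsProper (pullback.fst (U x).1.ι b) := by
    refine isProper_of_isBlowUp_of_isAffine ?_ hx
    rw [H29Blow.ideal_comap_ι]
    exact Ideal.FG.map (hU x) _
  rw [MorphismProperty.arrow_mk_iso_iff @IsProper (show Arrow.mk (b ∣_ (U x).1) ≅ Arrow.mk (pullback.fst (U x).1.ι b) from Arrow.isoMk ((pullbackRestrictIsoRestrict b (U x).1).symm ≪≫ pullbackSymmetry _ _) (Iso.refl _) (by simp [← cancel_mono (U x).1.ι, ← pullback.condition, pullbackRestrictIsoRestrict_inv_fst_assoc]))]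
  exact this

end Groth.Agent.H26Blow
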