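import Groth.Prelude.Def_BlowUp2
import Groth.Prelude.Def_Rees
import Mathlib.RingTheory.GradedAlgebra.HomogeneousLocalization
import Mathlib.RingTheory.Localization.Away.Basic

/-! The charts of `Proj` of a Rees algebra are the affine blow-up algebras. -/

set_option autoImplicit false

universe u

open Polynomial

namespace Groth.Agent.H26Blow

variable {A : Type u} [CommRing A] (I : Ideal A)

/-- The grading of the Rees algebra. -/
noncomputable abbrev gr : ℕ → Submodule A (reesAlgebra I) := Rees.deg (reesAlgebra I)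

/-- The element `a X` of the Rees algebra. -/
noncomputable def T (a : I) : reesAlgebra I :=
  ⟨monomial 1 (a : A), reesAlgebra.monomial_mem.2 (by rw [pow_one]; exact a.2)⟩

lemma coe_T (a : I) : (T I a : A[X]) = monomial 1 (a : A) := rfl

lemma monomial_mem_gr {n : ℕ} {c : A} (hc : c ∈ I ^ n) :
    (⟨monomial n c, reesAlgebra.monomial_mem.2 hc⟩ : reesAlgebra I) ∈ gr I n := fun m hm => by
  change (monomial n c).coeff m = 0
  rw [coeff_monomial, if_neg]
  exact fun h => hm h.symm

lemma T_mem (a : I) : T I a ∈ gr I 1 := monomial_mem_gr I (by rw [pow_one]; exact a.2)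

lemma eq_monomial {n : ℕ} {x : reesAlgebra I} (hx : x ∈ gr I n) : (x : A[X]) = monomial n ((x : A[X]).coeff n) := by
  ext m
  rw [coeff_monomial]
  split_ifs with h
  · rw [h]
  · exact hx m (fun h' => h h'.symm)

/-- Evaluation at `X = 1`. -/
noncomputable def ev : reesAlgebra I →+* A := (Polynomial.evalRingHom 1).comp (reesAlgebra I).val.toRingHom

lemma ev_of_mem {n : ℕ} {x : reesAlgebra I} (hx : x ∈ gr I n) : ev I x = (x : A[X]).coeff n := by
  conv_lhs => rw [ev, RingHom.comp_apply]
  show Polynomial.eval 1 (x : A[X]) = _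
  rw [eq_monomial I hx, eval_monomial, one_pow, mul_one, coeff_monomial, if_pos rfl]

lemma ev_T (a : I) : ev I (T I a) = (a : A) := by
  rw [ev_of_mem I (T_mem I a), coe_T, coeff_monomial, if_pos rfl]

variable (a : I)

/-- The homogeneous localization at `a X`. -/
noncomputable abbrev Chart : Type u := HomogeneousLocalization.Away (gr I) (T I a)

/-- The map to `A_a`. -/
noncomputable def toLoc : Chart I a →+* Localization.Away (a : A) :=
  (Localization.awayLift ((algebraMap A _).comp (ev I)) (T I a) (by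
    rw [RingHom.comp_apply, ev_T]; exact IsLocalization.Away.algebraMap_isUnit _)).comp
    (algebraMap (Chart I a) (Localization.Away (T I a)))

lemma toLoc_mk (n : ℕ) (x : reesAlgebra I) (hx : x ∈ gr I (n • 1)) :
    toLoc I a (HomogeneousLocalization.Away.mk (gr I) (T_mem I a) n x hx) * algebraMap A _ (a : A) ^ n =
      algebraMap A _ ((x : A[X]).coeff n) := by
  have h : (HomogeneousLocalization.Away.mk (gr I) (T_mem I a) n x hx).val * algebraMap _ (Localization.Away (T I a)) (T I a ^ n) =
      algebraMap _ _ x := by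
    rw [HomogeneousLocalization.Away.val_mk, Localization.mk_eq_mk']
    exact IsLocalization.mk'_spec (Localization.Away (T I a)) x (⟨T I a ^ n, n, rfl⟩ : Submonoid.powers (T I a))
  have h' := congrArg (Localization.awayLift ((algebraMap A (Localization.Away (a : A))).comp (ev I)) (T I a) (by
    rw [RingHom.comp_apply, ev_T]; exact IsLocalization.Away.algebraMap_isUnit _)) h
  rw [map_mul] at h'
  erw [IsLocalization.Away.lift_eq, IsLocalization.Away.lift_eq] at h'
  have e1 : ((algebraMap A (Localization.Away (a : A))).comp (ev I)) (T I a ^ n) = algebraMap A _ (a : A) ^ n := by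
    rw [map_pow, RingHom.comp_apply, ev_T]
  rw [e1] at h'
  rw [← ev_of_mem I (by simpa using hx)]
  exact h'

lemma toLoc_injective : Function.Injective (toLoc I a) := by
  refine (injective_iff_map_eq_zero _).2 fun z hz => ?_
  obtain ⟨n, x, hx, rfl⟩ := HomogeneousLocalization.Away.mk_surjective (gr I) (T_mem I a) z
  have h := toLoc_mk I a n x hx
  rw [hz, zero_mul] at h
  obtain ⟨⟨_, k, rfl⟩, hk⟩ := (IsLocalization.map_eq_zero_iff (Submonoid.powers (a : A)) _ _).1 h.symm
  apply HomogeneousLocalization.val_injective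
  rw [HomogeneousLocalization.Away.val_mk, HomogeneousLocalization.val_zero, Localization.mk_eq_mk',
    IsLocalization.mk'_eq_zero_iff]
  refine ⟨⟨T I a ^ k, k, rfl⟩, Subtype.ext ?_⟩
  show ((T I a ^ k * x : reesAlgebra I) : A[X]) = 0
  rw [Subalgebra.coe_mul, Subalgebra.coe_pow, coe_T, monomial_pow, eq_monomial I (by simpa using hx : x ∈ gr I n),
    monomial_mul_monomial]
  rw [show ((a : A) ^ k * (x : A[X]).coeff n) = 0 from hk, monomial_zero_right]

/-- The affine blow-up algebra. -/
noncomputable abbrev Alg : Subalgebra A (Localization.Away (a : A)) := BlowUp.affineAlgebra A I a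

lemma frac_mem {n : ℕ} {c : A} (hc : c ∈ I ^ n) {z : Localization.Away (a : A)}
    (hz : z * algebraMap A _ (a : A) ^ n = algebraMap A _ c) : z ∈ Alg I a := by
  induction hc using Submodule.pow_induction_on_left' generalizing z with
  | algebraMap r =>
    rw [pow_zero, mul_one] at hz
    exact hz ▸ Subalgebra.algebraMap_mem _ _
  | add x y i hx hy ihx ihy =>
    have hu : IsUnit (algebraMap A (Localization.Away (a : A)) (a : A) ^ i) :=
      (IsLocalization.Away.algebraMap_isUnit _).pow i
    obtain ⟨u, hu⟩ := hu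
    have h1 := ihx (z := algebraMap A _ x * ↑u⁻¹) (by rw [← hu, mul_assoc, Units.inv_mul, mul_one])
    have h2 := ihy (z := algebraMap A _ y * ↑u⁻¹) (by rw [← hu, mul_assoc, Units.inv_mul, mul_one])
    have e : z = algebraMap A _ x * ↑u⁻¹ + algebraMap A _ y * ↑u⁻¹ := by
      rw [← add_mul, ← map_add, ← hz, ← hu, mul_assoc, Units.mul_inv, mul_one]
    exact e ▸ Subalgebra.add_mem _ h1 h2
  | mem_mul m hm i x hx ih =>
    obtain ⟨u, hu⟩ := (IsLocalization.Away.algebraMap_isUnit (S := Localization.Away (a : A)) (a : A)).pow i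
    have h1 := ih (z := algebraMap A _ x * ↑u⁻¹) (by rw [← hu, mul_assoc, Units.inv_mul, mul_one])
    have h2 : IsLocalization.mk' (Localization.Away (a : A)) m ⟨(a : A), Submonoid.mem_powers _⟩ ∈ Alg I a :=
      Algebra.subset_adjoin ⟨m, hm, rfl⟩
    have e : z = IsLocalization.mk' (Localization.Away (a : A)) m ⟨(a : A), Submonoid.mem_powers _⟩ *
        (algebraMap A _ x * ↑u⁻¹) := by
      refine ((IsLocalization.Away.algebraMap_isUnit (S := Localization.Away (a : A)) (a : A)).pow (i + 1)).mul_left_inj.1 ?_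
      rw [hz, map_mul, pow_succ']
      have hm' : IsLocalization.mk' (Localization.Away (a : A)) m ⟨(a : A), Submonoid.mem_powers _⟩ *
          algebraMap A _ (a : A) = algebraMap A _ m := IsLocalization.mk'_spec _ m _
      rw [← hm', ← hu]
      have := u.inv_mul
      linear_combination (IsLocalization.mk' (Localization.Away (a : A)) m ⟨(a : A), Submonoid.mem_powers _⟩ *
        algebraMap A _ (a : A) * algebraMap A _ x) * this.symm
    exact e ▸ Subalgebra.mul_mem _ h2 h1

lemma toLoc_mem (z : Chart I a) : toLoc I a z ∈ Alg I a := by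
  obtain ⟨n, x, hx, rfl⟩ := HomogeneousLocalization.Away.mk_surjective (gr I) (T_mem I a) z
  exact frac_mem I a ((mem_reesAlgebra_iff I _).1 x.2 n) (toLoc_mk I a n x hx)

lemma mk_T_toLoc (x : I) :
    toLoc I a (HomogeneousLocalization.Away.mk (gr I) (T_mem I a) 1 (T I x) (by simpa using T_mem I x)) =
      IsLocalization.mk' (Localization.Away (a : A)) (x : A) ⟨(a : A), Submonoid.mem_powers _⟩ := by
  rw [IsLocalization.eq_mk'_iff_mul_eq]
  have h := toLoc_mk I a 1 (T I x) (by simpa using T_mem I x)
  rw [pow_one, coe_T, coeff_monomial, if_pos rfl] at h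
  exact h

lemma range_toLoc_ge {z : Localization.Away (a : A)} (hz : z ∈ Alg I a) : ∃ w, toLoc I a w = z := by
  induction hz using Algebra.adjoin_induction with
  | mem z hz =>
    obtain ⟨x, hx, rfl⟩ := hz
    exact ⟨_, mk_T_toLoc I a ⟨x, hx⟩⟩
  | algebraMap r =>
    have hr : (⟨C r, (reesAlgebra I).algebraMap_mem r⟩ : reesAlgebra I) ∈ gr I (0 • 1) := fun m hm => by
      change (C r).coeff m = 0
      rw [coeff_C, if_neg]
      exact fun h => hm (by simp [h])
    refine ⟨HomogeneousLocalization.Away.mk (gr I) (T_mem I a) 0 _ hr, ?_⟩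
    have h := toLoc_mk I a 0 _ hr
    rw [pow_zero, mul_one] at h
    rw [h]
    show algebraMap A _ ((C r).coeff 0) = _
    rw [coeff_C_zero]
  | add x y _ _ hx hy =>
    obtain ⟨w, rfl⟩ := hx
    obtain ⟨w', rfl⟩ := hy
    exact ⟨w + w', map_add _ _ _⟩
  | mul x y _ _ hx hy =>
    obtain ⟨w, rfl⟩ := hx
    obtain ⟨w', rfl⟩ := hy
    exact ⟨w * w', map_mul _ _ _⟩

/-- The chart at `a X` is the affine blow-up algebra `A[I/a]`. -/
noncomputable def chartEquiv : Chart I a ≃+* Alg I a :=
  RingEquiv.ofBijective ((toLoc I a).codRestrict (Alg I a).toSubring (toLoc_mem I a))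
    ⟨fun _ _ h => toLoc_injective I a (congrArg Subtype.val h),
      fun z => let ⟨w, hw⟩ := range_toLoc_ge I a z.2; ⟨w, Subtype.ext hw⟩⟩

lemma coe_chartEquiv (z : Chart I a) : (chartEquiv I a z : Localization.Away (a : A)) = toLoc I a z := rfl

lemma algebraMap_mem_nonZeroDivisors : algebraMap A (Alg I a) (a : A) ∈ nonZeroDivisors (Alg I a) := by
  rw [mem_nonZeroDivisors_iff_right]
  intro z hz
  apply Subtype.ext
  exact (IsLocalization.Away.algebraMap_isUnit (S := Localization.Away (a : A)) (a : A)).mul_left_eq_zero.1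
    (congrArg Subtype.val hz)

lemma exists_mul_eq (x : A) (hx : x ∈ I) : ∃ t : Alg I a, t * algebraMap A _ (a : A) = algebraMap A _ x :=
  ⟨⟨_, Algebra.subset_adjoin ⟨x, hx, rfl⟩⟩, Subtype.ext (IsLocalization.mk'_spec _ x _)⟩

lemma map_eq_span : I.map (algebraMap A (Alg I a)) = Ideal.span {algebraMap A _ (a : A)} := by
  refine le_antisymm (Ideal.map_le_iff_le_comap.2 fun x hx => ?_)
    (Ideal.span_le.2 (Set.singleton_subset_iff.2 (Ideal.mem_map_of_mem _ a.2)))
  obtain ⟨t, ht⟩ := exists_mul_eq I a x hx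
  exact Ideal.mem_span_singleton'.2 ⟨t, ht⟩

variable {B : Type u} [CommRing B] (φ : A →+* B)

/-- Universal property of `A[I/a]`. -/
theorem existsUnique_lift (hreg : φ (a : A) ∈ nonZeroDivisors B)
    (hI : ∀ x ∈ I, φ x ∈ Ideal.span {φ (a : A)}) :
    ∃! ψ : Alg I a →+* B, ψ.comp (algebraMap A (Alg I a)) = φ := by
  classical
  let B' := Localization.Away (φ (a : A))
  let ι := algebraMap B B'
  have hinj : Function.Injective ι :=
    IsLocalization.injective B' (Submonoid.powers_le.2 hreg)
  let L : Localization.Away (a : A) →+* B' := Localization.awayLift (ι.comp φ) (a : A)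
    (IsLocalization.Away.algebraMap_isUnit (S := B') (φ (a : A)))
  have hL : ∀ x, L (algebraMap A _ x) = ι (φ x) := fun x => IsLocalization.Away.lift_eq _ _ x
  have hmem : ∀ z : Alg I a, L (z : Localization.Away (a : A)) ∈ ι.range := by
    rintro ⟨z, hz⟩
    induction hz using Algebra.adjoin_induction with
    | mem z hz =>
      obtain ⟨x, hx, rfl⟩ := hz
      obtain ⟨t, ht⟩ := Ideal.mem_span_singleton'.1 (hI x hx)
      refine ⟨t, (IsLocalization.Away.algebraMap_isUnit (S := B') (φ (a : A))).mul_left_inj.1 ?_⟩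
      rw [← map_mul, ht, ← hL x, ← hL (a : A), ← map_mul]
      exact congrArg L (IsLocalization.mk'_spec _ x _).symm
    | algebraMap r => exact ⟨φ r, (hL r).symm⟩
    | add x y _ _ hx hy =>
      show L (x + y) ∈ _
      rw [map_add]; exact add_mem hx hy
    | mul x y _ _ hx hy =>
      show L (x * y) ∈ _
      rw [map_mul]; exact mul_mem hx hy
  let e : B ≃+* ι.range := RingEquiv.ofBijective ι.rangeRestrict
    ⟨fun _ _ h => hinj (congrArg Subtype.val h), ι.rangeRestrict_surjective⟩
  let ψ : Alg I a →+* B := e.symm.toRingHom.comp ((L.comp (Alg I a).val.toRingHom).codRestrict ι.range hmem)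
  refine ⟨ψ, RingHom.ext fun x => ?_, fun ψ' hψ' => RingHom.ext fun z => ?_⟩
  · apply e.injective
    show e (e.symm _) = _
    rw [e.apply_symm_apply]
    exact Subtype.ext (hL x)
  · obtain ⟨z, hz⟩ := z
    have hψ : ∀ x : A, ψ (algebraMap A _ x) = φ x := fun x => by
      apply e.injective
      show e (e.symm _) = _
      rw [e.apply_symm_apply]
      exact Subtype.ext (hL x)
    induction hz using Algebra.adjoin_induction with
    | mem z hz =>
      obtain ⟨x, hx, rfl⟩ := hz
      refine (mul_cancel_right_mem_nonZeroDivisors hreg).1 ?_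
      have h := IsLocalization.mk'_spec (Localization.Away (a : A)) x ⟨(a : A), Submonoid.mem_powers _⟩
      have e1 : ∀ g : Alg I a →+* B, (∀ y, g (algebraMap A _ y) = φ y) →
          g ⟨IsLocalization.mk' (Localization.Away (a : A)) x ⟨(a : A), Submonoid.mem_powers _⟩,
            Algebra.subset_adjoin ⟨x, hx, rfl⟩⟩ * φ (a : A) = φ x := fun g hg => by
        rw [← hg, ← hg x, ← map_mul]
        exact congrArg g (Subtype.ext h)
      exact (e1 ψ' fun y => RingHom.congr_fun hψ' y).trans (e1 ψ hψ).symm
    | algebraMap r => exact (RingHom.congr_fun hψ' r).trans (hψ r).symm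
    | add x y hx hy ihx ihy =>
      have : (⟨x + y, add_mem hx hy⟩ : Alg I a) = ⟨x, hx⟩ + ⟨y, hy⟩ := rfl
      rw [this, map_add, map_add, ihx, ihy]
    | mul x y hx hy ihx ihy =>
      have : (⟨x * y, mul_mem hx hy⟩ : Alg I a) = ⟨x, hx⟩ * ⟨y, hy⟩ := rfl
      rw [this, map_mul, map_mul, ihx, ihy]

end Groth.Agent.H26Blow
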